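import Mathlib

/-!
For a finite group `G` acting on a ring `R` and a prime `q` with inertia group `I`, the ring `R^I`
is étale over `R^G` at the prime under `q` (it is even standard étale there).
-/

set_option autoImplicit false

universe u v w

open Polynomial

namespace Groth.Agent.InertiaEtaleLib

section Sep

variable {G : Type w} [Group G] [Finite G] {R : Type u} [CommRing R] [MulSemiringAction G R]

omit [Finite G] in
theorem mem_inertia' {q : Ideal R} {σ : G} : σ ∈ q.inertia G ↔ ∀ x, σ • x - x ∈ q := Iff.rfl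

theorem eq_of_smul_mem {q : Ideal R} {σ : G} (h : ∀ a ∈ q, σ • a ∈ q) : ∀ a, σ • a ∈ q ↔ a ∈ q := by
  intro a
  refine ⟨fun ha => ?_, h a⟩
  have hk : ∀ k : ℕ, σ ^ (k + 1) • a ∈ q := by
    intro k
    induction k with
    | zero => simpa using ha
    | succ k ih => rw [pow_succ', mul_smul]; exact h _ ih
  obtain ⟨k, hk'⟩ := Nat.exists_eq_succ_of_ne_zero (orderOf_pos σ).ne'
  have := hk k
  rwa [show k + 1 = orderOf σ from hk'.symm, pow_orderOf_eq_one, one_smul] at this

/-- The decomposition group of an ideal. -/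
def decomp (G : Type w) [Group G] [MulSemiringAction G R] (q : Ideal R) : Subgroup G where
  carrier := {σ | ∀ a, σ • a ∈ q ↔ a ∈ q}
  one_mem' := fun a => by rw [one_smul]
  mul_mem' := fun {σ τ} hσ hτ a => by rw [mul_smul, hσ, hτ]
  inv_mem' := fun {σ} hσ a => by rw [← hσ (σ⁻¹ • a), smul_inv_smul]

omit [Finite G] in
theorem mem_decomp {q : Ideal R} {σ : G} : σ ∈ decomp G q ↔ ∀ a, σ • a ∈ q ↔ a ∈ q := Iff.rfl

omit [Finite G] in
theorem inertia_le_decomp (q : Ideal R) : q.inertia G ≤ decomp G q := by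
  intro σ hσ a
  have h := mem_inertia'.1 hσ a
  constructor
  · intro ha; simpa using q.sub_mem ha h
  · intro ha; simpa using q.add_mem h ha

omit [Finite G] in
theorem exists_moved_of_finite (q : Ideal R) [q.IsPrime] [Finite (R ⧸ q)] :
    ∃ a : R, ∀ σ ∈ decomp G q, σ • a - a ∈ q → σ ∈ q.inertia G := by
  obtain ⟨g, hg⟩ := IsCyclic.exists_generator (α := (R ⧸ q)ˣ)
  obtain ⟨a, ha⟩ := Ideal.Quotient.mk_surjective (g : R ⧸ q)
  refine ⟨a, fun σ hσ hfix => mem_inertia'.2 fun r => ?_⟩
  by_cases hr : r ∈ q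
  · exact q.sub_mem ((hσ r).2 hr) hr
  have hne : Ideal.Quotient.mk q r ≠ 0 := by rwa [ne_eq, Ideal.Quotient.eq_zero_iff_mem]
  have hu : IsUnit (Ideal.Quotient.mk q r) :=
    isUnit_iff_exists_inv.2 ((Finite.isField_of_domain (R ⧸ q)).mul_inv_cancel hne)
  obtain ⟨k, hk⟩ := Submonoid.mem_powers_iff _ _ |>.1
    ((mem_powers_iff_mem_zpowers (x := g)).2 (hg hu.unit))
  have hk' : Ideal.Quotient.mk q r = Ideal.Quotient.mk q (a ^ k) := by
    rw [map_pow, ha, ← Units.val_pow_eq_pow_val, hk]
    exact hu.unit_spec.symm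
  rw [Ideal.Quotient.eq] at hk'
  have h1 : σ • (r - a ^ k) ∈ q := (hσ _).2 hk'
  have h2 : Ideal.Quotient.mk q (σ • a ^ k) = Ideal.Quotient.mk q (a ^ k) := by
    rw [smul_pow', map_pow, map_pow, Ideal.Quotient.eq.2 hfix]
  rw [smul_sub] at h1
  have := q.add_mem (q.sub_mem h1 hk') (Ideal.Quotient.eq.1 h2)
  convert this using 1
  ring

theorem exists_moved (q : Ideal R) [q.IsPrime] :
    ∃ a : R, ∀ σ ∈ decomp G q, σ • a - a ∈ q → σ ∈ q.inertia G := by
  classical
  haveI := Fintype.ofFinite G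
  haveI : Nontrivial R := (Ideal.Quotient.mk q).domain_nontrivial
  let Fx : Set (R ⧸ q) := Ideal.Quotient.mk q '' {t | ∀ σ ∈ decomp G q, σ • t - t ∈ q}
  by_cases hfin : Fx.Finite
  · haveI : Finite (R ⧸ q) := by
      let N := Fintype.card (decomp G q)
      have hall : ∀ y : R ⧸ q, y ∈ ⋃ c ∈ (Set.univ.pi fun _ : Fin N => Fx),
          {y : R ⧸ q | y ^ N + ∑ i : Fin N, c i * y ^ (i : ℕ) = 0} := by
        intro y
        obtain ⟨r, rfl⟩ := Ideal.Quotient.mk_surjective y
        let f : R[X] := ∏ σ : decomp G q, (X - C ((σ : G) • r))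
        have hf : f.Monic := monic_prod_of_monic _ _ fun σ _ => monic_X_sub_C _
        have hdeg : f.natDegree = N := by
          rw [natDegree_prod_of_monic _ _ fun σ _ => monic_X_sub_C _]
          simp [N]
        have hinv : ∀ τ ∈ decomp G q, τ • f = f := by
          intro τ hτ
          rw [Finset.smul_prod']
          refine Fintype.prod_equiv (Equiv.mulLeft (⟨τ, hτ⟩ : decomp G q)) _ _ fun σ => ?_
          simp [smul_sub, mul_smul]
        have hroot : f.eval r = 0 := by
          rw [eval_prod]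
          exact Finset.prod_eq_zero (Finset.mem_univ 1) (by simp)
        simp only [Set.mem_iUnion, Set.mem_pi, Set.mem_univ, true_implies, Set.mem_setOf_eq]
        refine ⟨fun i => Ideal.Quotient.mk q (f.coeff i), fun i => ?_, ?_⟩
        · refine ⟨f.coeff i, fun τ hτ => ?_, rfl⟩
          rw [← coeff_smul, hinv τ hτ, sub_self]
          exact q.zero_mem
        · rw [hf.as_sum, eval_add, eval_pow, eval_X, eval_finsetSum, hdeg, Finset.sum_range] at hroot
          have := congrArg (Ideal.Quotient.mk q) hroot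
          simpa [eval_mul, map_sum] using this
      refine Set.finite_univ_iff.1 (Set.Finite.subset ?_ fun y _ => hall y)
      refine (Set.Finite.pi' fun _ => hfin).subset (by intro c hc; exact fun i => hc i trivial)
        |>.biUnion fun c _ => ?_
      let P : (R ⧸ q)[X] := X ^ N + ∑ i : Fin N, C (c i) * X ^ (i : ℕ)
      have hP : P ≠ 0 := (monic_X_pow_add (degree_sum_fin_lt _)).ne_zero
      refine (P.rootSet_finite (R ⧸ q)).subset fun y hy => ?_
      rw [mem_rootSet]
      exact ⟨hP, by simpa [P, eval_finsetSum] using hy⟩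
    exact exists_moved_of_finite q
  · let S : Finset G := Finset.univ.filter fun σ => σ ∈ decomp G q ∧ σ ∉ q.inertia G
    have hwit : ∀ σ ∈ S, ∃ r, σ • r - r ∉ q := by
      intro σ hσ
      have h := (Finset.mem_filter.1 hσ).2.2
      rw [mem_inertia'] at h
      push Not at h
      exact h
    choose w hw using hwit
    let idx : G → ℕ := fun τ => (Fintype.equivFin G τ : ℕ)
    let P : G → (R ⧸ q)[X] := fun σ =>
      ∑ τ ∈ S.attach, C (Ideal.Quotient.mk q (σ • w τ.1 τ.2 - w τ.1 τ.2)) * X ^ idx τ.1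
    have hP : ∀ σ ∈ S, P σ ≠ 0 := by
      intro σ hσ h0
      have := congrArg (fun p => p.coeff (idx σ)) h0
      simp only [P, finsetSum_coeff, coeff_C_mul, coeff_X_pow, coeff_zero] at this
      rw [Finset.sum_eq_single ⟨σ, hσ⟩] at this
      · rw [if_pos rfl, mul_one, Ideal.Quotient.eq_zero_iff_mem] at this
        exact hw σ hσ this
      · intro τ _ hne
        rw [if_neg, mul_zero]
        intro he
        exact hne (Subtype.ext ((Fintype.equivFin G).injective (Fin.ext he)).symm)
      · intro h; exact absurd (Finset.mem_attach _ _) h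
    obtain ⟨_, ⟨t, ht, rfl⟩, htP⟩ : ∃ y ∈ Fx, y ∉ ⋃ σ ∈ S, {y | (P σ).IsRoot y} := by
      have hroots : (⋃ σ ∈ S, {y | (P σ).IsRoot y}).Finite :=
        S.finite_toSet.biUnion fun σ hσ => finite_setOf_isRoot (hP σ hσ)
      exact (Set.Infinite.diff hfin hroots).nonempty
    refine ⟨∑ τ ∈ S.attach, w τ.1 τ.2 * t ^ idx τ.1, fun σ hσ hfix => ?_⟩
    by_contra hσI
    apply htP
    simp only [Set.mem_iUnion, Set.mem_setOf_eq]
    refine ⟨σ, Finset.mem_filter.2 ⟨Finset.mem_univ _, hσ, hσI⟩, ?_⟩
    have ht' : Ideal.Quotient.mk q (σ • t) = Ideal.Quotient.mk q t := Ideal.Quotient.eq.2 (ht σ hσ)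
    rw [IsRoot, ← Ideal.Quotient.eq.2 hfix |> sub_eq_zero.2]
    simp only [P, eval_finsetSum, eval_mul, eval_C, eval_pow, eval_X, eval_sub, Finset.smul_sum,
      smul_mul', smul_pow', map_sum, map_mul, map_pow, map_sub, ht', ← Finset.sum_sub_distrib, sub_mul]

/-- A separating element of `R^I`. -/
theorem exists_separating (q : Ideal R) [q.IsPrime] :
    ∃ θ : R, (∀ σ ∈ q.inertia G, σ • θ = θ) ∧ ∀ σ ∉ q.inertia G, σ • θ - θ ∉ q := by
  classical
  haveI := Fintype.ofFinite G
  set I := q.inertia G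
  set D := decomp G q
  by_cases hID : ∀ σ ∈ D, σ ∈ I
  · -- `D = I`
    have hpick : ∀ σ : G, ∃ e, e ∉ q ∧ (σ ∉ D → σ • e ∈ q) := by
      intro σ
      by_cases hσ : σ ∈ D
      · exact ⟨1, fun h => (Ideal.IsPrime.ne_top inferInstance) ((Ideal.eq_top_iff_one q).2 h),
          fun h => absurd hσ h⟩
      · have hσ' : ¬ ∀ a ∈ q, σ⁻¹ • a ∈ q := fun h => hσ (by
          have := D.inv_mem (mem_decomp.2 (eq_of_smul_mem h))
          rwa [inv_inv] at this)
        push Not at hσ'
        obtain ⟨a, ha, ha'⟩ := hσ'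
        exact ⟨σ⁻¹ • a, ha', fun _ => by rwa [smul_inv_smul]⟩
    choose e he he' using hpick
    let e0 := ∏ σ : G, e σ
    let θ := ∏ δ : D, (δ : G) • e0
    have he0 : e0 ∉ q := by
      rw [Ideal.IsPrime.prod_mem_iff]
      push Not
      exact fun σ _ => he σ
    have hθq : θ ∉ q := by
      rw [Ideal.IsPrime.prod_mem_iff]
      push Not
      exact fun δ _ => mt (δ.2 e0).1 he0
    refine ⟨θ, fun σ hσ => ?_, fun σ hσ h => ?_⟩
    · rw [Finset.smul_prod']
      exact Fintype.prod_equiv (Equiv.mulLeft (⟨σ, inertia_le_decomp q hσ⟩ : D)) _ _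
        fun δ => by simp [mul_smul]
    · have hσD : σ ∉ D := fun hD => hσ (hID σ hD)
      have h1 : σ • θ ∈ q := by
        rw [Finset.smul_prod', Ideal.IsPrime.prod_mem_iff]
        refine ⟨1, Finset.mem_univ _, ?_⟩
        show σ • ((1 : D) : G) • e0 ∈ q
        rw [OneMemClass.coe_one, one_smul, Finset.smul_prod', Ideal.IsPrime.prod_mem_iff]
        exact ⟨σ, Finset.mem_univ _, he' σ hσD⟩
      exact hθq (by simpa using q.sub_mem h1 h)
  · -- `D ≠ I`
    have hpick : ∀ σ : G, ∃ e, e ∉ q ∧ (σ ∉ D → σ • e ∈ q) := by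
      intro σ
      by_cases hσ : σ ∈ D
      · exact ⟨1, fun h => (Ideal.IsPrime.ne_top inferInstance) ((Ideal.eq_top_iff_one q).2 h),
          fun h => absurd hσ h⟩
      · have hσ' : ¬ ∀ a ∈ q, σ⁻¹ • a ∈ q := fun h => hσ (by
          have := D.inv_mem (mem_decomp.2 (eq_of_smul_mem h))
          rwa [inv_inv] at this)
        push Not at hσ'
        obtain ⟨a, ha, ha'⟩ := hσ'
        exact ⟨σ⁻¹ • a, ha', fun _ => by rwa [smul_inv_smul]⟩
    choose e he he' using hpick
    let e0 := ∏ σ : G, e σ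
    let e1 := ∏ δ : D, (δ : G) • e0
    have he1D : ∀ σ ∈ D, σ • e1 = e1 := by
      intro σ hσ
      rw [Finset.smul_prod']
      exact Fintype.prod_equiv (Equiv.mulLeft (⟨σ, hσ⟩ : D)) _ _ fun δ => by simp [mul_smul]
    have he1 : e1 ∉ q := by
      rw [Ideal.IsPrime.prod_mem_iff]
      push Not
      intro δ _
      rw [δ.2 e0, Ideal.IsPrime.prod_mem_iff]
      push Not
      exact fun σ _ => he σ
    have he1out : ∀ σ ∉ D, σ • e1 ∈ q := by
      intro σ hσ
      rw [Finset.smul_prod', Ideal.IsPrime.prod_mem_iff]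
      refine ⟨1, Finset.mem_univ _, ?_⟩
      show σ • ((1 : D) : G) • e0 ∈ q
      rw [OneMemClass.coe_one, one_smul, Finset.smul_prod', Ideal.IsPrime.prod_mem_iff]
      exact ⟨σ, Finset.mem_univ _, he' σ hσ⟩
    obtain ⟨a, ha⟩ := exists_moved (G := G) q
    -- make `a` invariant under `I` without losing separation
    let L := R ⧸ q
    obtain ⟨p, hp⟩ : ∃ p, ExpChar L p := ⟨ringExpChar (R ⧸ q), inferInstance⟩
    set m := Fintype.card I with hm
    have hm0 : m ≠ 0 := Fintype.card_ne_zero
    obtain ⟨k, m', hmk, hm'⟩ : ∃ (k m' : ℕ), m = p ^ k * m' ∧ (m' : L) ≠ 0 := by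
      rcases expChar_is_prime_or_one L p with hpp | hp1
      · obtain ⟨k, m', hnd, hmeq⟩ := Nat.exists_eq_pow_mul_and_not_dvd hm0 p hpp.one_lt.ne'
        refine ⟨k, m', hmeq, ?_⟩
        haveI : Fact p.Prime := ⟨hpp⟩
        haveI : CharP L p := by
          cases hp with
          | zero => exact absurd rfl hpp.one_lt.ne'
          | prime _ => assumption
        rwa [ne_eq, CharP.cast_eq_zero_iff L p]
      · subst hp1
        haveI : CharZero L := charZero_of_expChar_one' L
        exact ⟨0, m, by simp, Nat.cast_ne_zero.2 hm0⟩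
    have hm'0 : m' ≠ 0 := fun h => hm' (by simp [h])
    let f : R[X] := ∏ τ : I, (X - C ((τ : G) • a))
    set N := p ^ k * (m' - 1)
    let w := f.coeff N
    have hwI : ∀ σ ∈ I, σ • w = w := by
      intro σ hσ
      rw [← coeff_smul]
      congr 1
      rw [Finset.smul_prod']
      exact Fintype.prod_equiv (Equiv.mulLeft (⟨σ, hσ⟩ : I)) _ _ fun τ => by
        simp [smul_sub, mul_smul]
    have hpk : p ^ k ≠ 0 := pow_ne_zero _ (expChar_pos L p).ne'
    have hwmod : Ideal.Quotient.mk q w =
        -((m' : L) * Ideal.Quotient.mk q a ^ p ^ k) := by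
      have hf : f.map (Ideal.Quotient.mk q) = (X - C (Ideal.Quotient.mk q a)) ^ m := by
        rw [Polynomial.map_prod, hm, Fintype.card, ← Finset.prod_const]
        refine Finset.prod_congr rfl fun τ _ => ?_
        rw [Polynomial.map_sub, map_X, map_C, Ideal.Quotient.eq.2 (mem_inertia'.1 τ.2 a)]
      have hexp : (X - C (Ideal.Quotient.mk q a)) ^ m =
          Polynomial.expand L (p ^ k) ((X + C (-(Ideal.Quotient.mk q a ^ p ^ k))) ^ m') := by
        rw [hmk, pow_mul, sub_pow_expChar_pow, map_pow, map_add, expand_X, expand_C, map_neg,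
          map_pow, sub_eq_add_neg]
      have h2 : Ideal.Quotient.mk q w = (((X - C (Ideal.Quotient.mk q a)) ^ m).coeff N) := by
        rw [← hf, coeff_map]
      rw [h2, hexp]
      show (Polynomial.expand L (p ^ k) _).coeff (p ^ k * (m' - 1)) = _
      rw [coeff_expand_mul' (Nat.pos_of_ne_zero hpk), coeff_X_add_C_pow,
        Nat.sub_sub_self (Nat.one_le_iff_ne_zero.2 hm'0), pow_one,
        Nat.choose_symm (Nat.one_le_iff_ne_zero.2 hm'0), Nat.choose_one_right]
      ring
    have hwsep : ∀ σ ∈ D, σ ∉ I → σ • w - w ∉ q := by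
      intro σ hσ hσI h
      apply hσI
      apply ha σ hσ
      let σ' : L →+* L := Ideal.Quotient.lift q
        ((Ideal.Quotient.mk q).comp (MulSemiringAction.toRingHom G R σ)) (fun r hr => by
          rw [RingHom.comp_apply, Ideal.Quotient.eq_zero_iff_mem]
          exact (hσ r).2 hr)
      have hσ' : ∀ r, σ' (Ideal.Quotient.mk q r) = Ideal.Quotient.mk q (σ • r) := fun r => rfl
      have h1 := Ideal.Quotient.eq.2 h
      rw [← hσ', hwmod, map_neg, map_mul, map_natCast, map_pow, hσ', neg_inj] at h1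
      have h2 := mul_left_cancel₀ hm' h1
      exact Ideal.Quotient.eq.1 (iterateFrobenius_inj L p k h2)
    refine ⟨e1 * w, fun σ hσ => ?_, fun σ hσ h => ?_⟩
    · rw [smul_mul', he1D σ (inertia_le_decomp q hσ), hwI σ hσ]
    · by_cases hσD : σ ∈ D
      · rw [smul_mul', he1D σ hσD, ← mul_sub] at h
        exact (Ideal.IsPrime.mem_or_mem inferInstance h).elim he1 (hwsep σ hσD hσ)
      · have h1 : σ • (e1 * w) ∈ q := by
          rw [smul_mul']
          exact q.mul_mem_right _ (he1out σ hσD)
        have h2 : e1 * w ∈ q := by simpa using q.sub_mem h1 h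
        push Not at hID
        obtain ⟨δ, hδ, hδI⟩ := hID
        refine hwsep δ hδ hδI ?_
        have hw' : w ∈ q := (Ideal.IsPrime.mem_or_mem inferInstance h2).resolve_left he1
        exact q.sub_mem ((hδ w).2 hw') hw'

end Sep

section Etale

variable {G : Type w} [Group G] [Finite G] {R : Type u} [CommRing R] [MulSemiringAction G R]
  {S : Type v} [CommRing S] [Algebra S R] [SMulCommClass G S R] [Algebra.IsInvariant S R G]
  {T : Type v} [CommRing T] [Algebra S T] [Algebra T R] [IsScalarTower S T R]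

/-- If `θ ∈ R^I` is separated from its other conjugates modulo `q`, then `R^I` is étale over `R^G`
near `q`. -/
theorem exists_etale_away (hS : Function.Injective (algebraMap S R))
    (hT : Function.Injective (algebraMap T R)) (I : Subgroup G)
    (hTI : ∀ r : R, (∀ σ ∈ I, σ • r = r) ↔ r ∈ Set.range (algebraMap T R))
    (q : Ideal R) [q.IsPrime] (θ : R) (hθI : ∀ σ ∈ I, σ • θ = θ)
    (hθ : ∀ σ ∉ I, σ • θ - θ ∉ q) :
    ∃ g : T, algebraMap T R g ∉ q ∧ Algebra.Etale S (Localization.Away g) := by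
  classical
  haveI := Fintype.ofFinite G
  let O : Finset R := Finset.univ.image fun σ : G => σ • θ
  have hmemO : ∀ (σ : G) {a}, a ∈ O → σ • a ∈ O := by
    intro σ a ha
    obtain ⟨τ, -, rfl⟩ := Finset.mem_image.1 ha
    exact Finset.mem_image.2 ⟨σ * τ, Finset.mem_univ _, mul_smul σ τ θ⟩
  have hθO : θ ∈ O := Finset.mem_image.2 ⟨1, Finset.mem_univ _, one_smul G θ⟩
  let F : R[X] := ∏ a ∈ O, (X - C a)
  have hFm : F.Monic := monic_prod_of_monic _ _ fun a _ => monic_X_sub_C a
  have hinvlift : ∀ P : R[X], (∀ σ : G, σ • P = P) → P ∈ lifts (algebraMap S R) := by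
    intro P hP
    rw [lifts_iff_coeff_lifts]
    intro i
    exact Algebra.IsInvariant.isInvariant (G := G) _ fun σ => by rw [← coeff_smul, hP]
  have hFinv : ∀ σ : G, σ • F = F := by
    intro σ
    rw [Finset.smul_prod']
    refine Finset.prod_nbij' (fun a => σ • a) (fun a => σ⁻¹ • a) (fun a ha => hmemO σ ha)
      (fun a ha => hmemO σ⁻¹ ha) (fun a _ => inv_smul_smul σ a) (fun a _ => smul_inv_smul σ a)
      (fun a _ => by rw [smul_sub, smul_X, smul_C])
  obtain ⟨F₀, hF₀, -, hF₀m⟩ := lifts_and_natDegree_eq_and_monic (hinvlift F hFinv) hFm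
  let pair : StandardEtalePair S :=
    ⟨F₀, hF₀m, derivative F₀, ⟨1, 0, 1, by rw [mul_one, mul_zero, add_zero, pow_one]⟩⟩
  have hθR : θ ∈ Set.range (algebraMap T R) := (hTI θ).1 hθI
  obtain ⟨θT, hθT⟩ := hθR
  have haeval : ∀ P : S[X], algebraMap T R (aeval θT P) = (P.map (algebraMap S R)).eval θ := by
    intro P
    rw [eval_map_algebraMap, ← hθT, aeval_algebraMap_apply]
  have hderiv : F.derivative.eval θ = ∏ a ∈ O.erase θ, (θ - a) := by
    rw [derivative_prod_finset, eval_finsetSum, Finset.sum_eq_single θ]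
    · simp [eval_prod]
    · intro b _ hb
      rw [eval_mul, eval_prod, Finset.prod_eq_zero (Finset.mem_erase.2 ⟨Ne.symm hb, hθO⟩) (by simp),
        zero_mul]
    · intro h; exact absurd hθO h
  set g : T := aeval θT (derivative F₀) with hg
  have hgR : algebraMap T R g = ∏ a ∈ O.erase θ, (θ - a) := by
    rw [hg, haeval, ← derivative_map, hF₀, hderiv]
  have hgq : algebraMap T R g ∉ q := by
    rw [hgR, Ideal.IsPrime.prod_mem_iff]
    rintro ⟨a, ha, haq⟩
    obtain ⟨hane, haO⟩ := Finset.mem_erase.1 ha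
    obtain ⟨σ, -, rfl⟩ := Finset.mem_image.1 haO
    refine hθ σ (fun hσ => hane (hθI σ hσ)) ?_
    simpa using q.neg_mem haq
  refine ⟨g, hgq, ?_⟩
  let Tg := Localization.Away g
  set x : Tg := algebraMap T Tg θT
  have hx : ∀ P : S[X], aeval x P = algebraMap T Tg (aeval θT P) := fun P =>
    aeval_algebraMap_apply Tg θT P
  have hmap : pair.HasMap x := by
    refine ⟨?_, ?_⟩
    · show aeval x F₀ = 0
      rw [hx, show aeval θT F₀ = 0 from hT (by
        rw [haeval, hF₀, map_zero, eval_prod]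
        exact Finset.prod_eq_zero hθO (by simp)), map_zero]
    · show IsUnit (aeval x (derivative F₀))
      rw [hx]
      exact IsLocalization.Away.algebraMap_isUnit g
  let φ : pair.Ring →ₐ[S] Tg := pair.lift x hmap
  have hφX : ∀ P : S[X], φ (aeval pair.X P) = algebraMap T Tg (aeval θT P) := by
    intro P
    rw [← aeval_algHom_apply, StandardEtalePair.lift_X, hx]
  obtain ⟨gu, hgu⟩ : IsUnit (aeval pair.X (derivative F₀)) := StandardEtalePair.hasMap_X.2
  -- interpolation
  have hinterp : ∀ u : T, ∃ P : S[X], aeval θT P = u * g := by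
    intro u
    have hpre : ∀ a ∈ O, ∃ σ : G, σ • θ = a := fun a ha => by
      obtain ⟨σ, -, rfl⟩ := Finset.mem_image.1 ha
      exact ⟨σ, rfl⟩
    choose σof hσof using hpre
    let uval : R → R := fun a => if h : a ∈ O then σof a h • algebraMap T R u else 0
    have huval : ∀ (σ : G), uval (σ • θ) = σ • algebraMap T R u := by
      intro σ
      have ha : σ • θ ∈ O := hmemO σ hθO
      simp only [uval, dif_pos ha]
      have h1 := hσof (σ • θ) ha
      set τ := σof (σ • θ) ha
      have h2 : σ⁻¹ * τ ∈ I := by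
        by_contra hn
        refine hθ _ hn ?_
        rw [mul_smul, h1, inv_smul_smul, sub_self]
        exact q.zero_mem
      calc τ • algebraMap T R u = σ • ((σ⁻¹ * τ) • algebraMap T R u) := by
            rw [← mul_smul, mul_inv_cancel_left]
        _ = σ • algebraMap T R u := by rw [(hTI _).2 ⟨u, rfl⟩ _ h2]
    let H : R[X] := ∑ a ∈ O, C (uval a) * ∏ b ∈ O.erase a, (X - C b)
    have hHinv : ∀ σ : G, σ • H = H := by
      intro σ
      rw [Finset.smul_sum]
      refine Finset.sum_nbij' (fun a => σ • a) (fun a => σ⁻¹ • a) (fun a ha => hmemO σ ha)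
        (fun a ha => hmemO σ⁻¹ ha) (fun a _ => inv_smul_smul σ a) (fun a _ => smul_inv_smul σ a)
        (fun a ha => ?_)
      obtain ⟨τ, -, rfl⟩ := Finset.mem_image.1 ha
      rw [smul_mul', smul_C, huval, ← mul_smul, ← mul_smul, huval, Finset.smul_prod']
      congr 1
      refine Finset.prod_nbij' (fun b => σ • b) (fun b => σ⁻¹ • b) ?_ ?_
        (fun b _ => inv_smul_smul σ b) (fun b _ => smul_inv_smul σ b)
        (fun b _ => by rw [smul_sub, smul_X, smul_C])
      · intro b hb
        obtain ⟨h1, h2⟩ := Finset.mem_erase.1 hb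
        refine Finset.mem_erase.2 ⟨fun h => h1 ?_, hmemO σ h2⟩
        have := congrArg (fun z => σ⁻¹ • z) h
        simpa [mul_smul] using this
      · intro b hb
        obtain ⟨h1, h2⟩ := Finset.mem_erase.1 hb
        refine Finset.mem_erase.2 ⟨fun h => h1 ?_, hmemO σ⁻¹ h2⟩
        have := congrArg (fun z => σ • z) h
        simpa [mul_smul] using this
    obtain ⟨P, hP⟩ := hinvlift H hHinv
    refine ⟨P, hT ?_⟩
    rw [haeval, show P.map (algebraMap S R) = H from hP, map_mul, hgR, eval_finsetSum,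
      Finset.sum_eq_single θ]
    · rw [eval_mul, eval_C, eval_prod]
      have := huval 1
      rw [one_smul, one_smul] at this
      rw [this]
      simp
    · intro b _ hb
      rw [eval_mul, eval_prod, Finset.prod_eq_zero (Finset.mem_erase.2 ⟨Ne.symm hb, hθO⟩) (by simp),
        mul_zero]
    · intro h; exact absurd hθO h
  have hsurj : Function.Surjective φ := by
    intro z
    obtain ⟨⟨u, ⟨_, n, rfl⟩⟩, hu⟩ := IsLocalization.surj (Submonoid.powers g) z
    obtain ⟨P, hP⟩ := hinterp u
    refine ⟨aeval pair.X P * (↑gu⁻¹ : pair.Ring) ^ (n + 1), ?_⟩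
    have hgu' : φ (gu : pair.Ring) = algebraMap T Tg g := by rw [hgu, hφX, ← hg]
    have h1 : φ (↑gu⁻¹ : pair.Ring) * algebraMap T Tg g = 1 := by
      rw [← hgu', ← map_mul, Units.inv_mul, map_one]
    simp only [map_pow] at hu
    rw [map_mul, map_pow, hφX, hP, map_mul, ← hu, mul_assoc z, ← pow_succ, mul_assoc, ← mul_pow,
      mul_comm (algebraMap T Tg g), h1, one_pow, mul_one]
  have hrepr : ∀ z : pair.Ring, ∃ (P : S[X]) (n : ℕ), z * (gu : pair.Ring) ^ n = aeval pair.X P := by
    intro z
    let mk' : Polynomial S[X] →+* pair.Ring := Ideal.Quotient.mk _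
    obtain ⟨Q, rfl⟩ : ∃ Q, mk' Q = z := Ideal.Quotient.mk_surjective z
    have hC : ∀ c : S[X], mk' (C c) = aeval pair.X c := by
      intro c
      induction c using Polynomial.induction_on' with
      | add c d hc hd => rw [C_add, map_add, map_add, hc, hd]
      | monomial k s =>
        rw [← C_mul_X_pow_eq_monomial, C_mul, C_pow, map_mul, map_mul, map_pow, map_pow, aeval_C,
          aeval_X]
        rfl
    have hY : mk' X * (gu : pair.Ring) = 1 := by
      rw [hgu, mul_comm]; exact pair.aeval_X_g_mul_mk_X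
    induction Q using Polynomial.induction_on' with
    | add Q Q' hQ hQ' =>
      obtain ⟨P, n, hP⟩ := hQ
      obtain ⟨P', n', hP'⟩ := hQ'
      refine ⟨P * derivative F₀ ^ n' + P' * derivative F₀ ^ n, n + n', ?_⟩
      rw [map_add, map_add, map_mul, map_mul, map_pow, map_pow, ← hgu, ← hP, ← hP', pow_add]
      ring
    | monomial k c =>
      refine ⟨c, k, ?_⟩
      rw [← C_mul_X_pow_eq_monomial, map_mul, map_pow, mul_assoc, ← mul_pow, hY, one_pow, mul_one,
        hC]
  have hinj : Function.Injective φ := by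
    rw [injective_iff_map_eq_zero]
    intro z hz
    obtain ⟨P, n, hP⟩ := hrepr z
    have h1 : algebraMap T Tg (aeval θT P) = 0 := by rw [← hφX, ← hP, map_mul, hz, zero_mul]
    obtain ⟨⟨_, k, rfl⟩, hk⟩ := (IsLocalization.map_eq_zero_iff (Submonoid.powers g) Tg _).1 h1
    let P' : S[X] := derivative F₀ ^ k * P
    have hP' : aeval θT P' = 0 := by rw [map_mul, map_pow, ← hg]; exact hk
    have hroots : ∀ a ∈ O, (P'.map (algebraMap S R)).eval a = 0 := by
      intro a ha
      obtain ⟨σ, -, rfl⟩ := Finset.mem_image.1 ha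
      have h2 := congrArg (algebraMap T R) hP'
      rw [haeval, map_zero] at h2
      have h3 : σ • P'.map (algebraMap S R) = P'.map (algebraMap S R) := by
        ext i
        rw [coeff_smul, coeff_map, smul_algebraMap]
      rw [← h3, smul_eval_smul, h2, smul_zero]
    have hdvd : F ∣ (P' * derivative F₀).map (algebraMap S R) := by
      rw [Polynomial.map_mul, ← derivative_map, hF₀, derivative_prod_finset, Finset.mul_sum]
      refine Finset.dvd_sum fun a ha => ?_
      obtain ⟨Q, hQ⟩ := dvd_iff_isRoot.2 (show (P'.map (algebraMap S R)).IsRoot a from hroots a ha)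
      rw [hQ]
      refine ⟨Q, ?_⟩
      show _ = (∏ b ∈ O, (X - C b)) * Q
      rw [← Finset.mul_prod_erase O _ ha]
      simp only [derivative_sub, derivative_X, derivative_C, sub_zero, mul_one]
      ring
    rw [← hF₀, map_dvd_map _ hS hF₀m] at hdvd
    obtain ⟨Q, hQ⟩ := hdvd
    have h4 := congrArg (aeval pair.X) hQ
    simp only [P', map_mul, map_pow] at h4
    rw [show aeval pair.X F₀ = 0 from StandardEtalePair.hasMap_X.1, zero_mul, ← hgu, ← hP] at h4
    have hu : IsUnit ((gu : pair.Ring) ^ k * (gu : pair.Ring) ^ n * gu) :=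
      ((gu.isUnit.pow _).mul (gu.isUnit.pow _)).mul gu.isUnit
    refine (hu.mul_left_eq_zero (a := z)).1 ?_
    rw [← h4]
    ring
  exact Algebra.Etale.of_equiv (AlgEquiv.ofBijective φ ⟨hinj, hsurj⟩)

/-- `R^I` is étale over `R^G` at the prime under `q`, for `I` the inertia group of `q`. -/
theorem exists_etale_away_inertia (hS : Function.Injective (algebraMap S R))
    (hT : Function.Injective (algebraMap T R)) (q : Ideal R) [q.IsPrime]
    (hTI : ∀ r : R, (∀ σ ∈ q.inertia G, σ • r = r) ↔ r ∈ Set.range (algebraMap T R)) :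
    ∃ g : T, algebraMap T R g ∉ q ∧ Algebra.Etale S (Localization.Away g) := by
  obtain ⟨θ, h1, h2⟩ := exists_separating (G := G) q
  exact exists_etale_away hS hT _ hTI q θ h1 h2

/-- Étaleness at the prime under `q`. -/
theorem isEtaleAt_inertia (hS : Function.Injective (algebraMap S R))
    (hT : Function.Injective (algebraMap T R)) (q : Ideal R) [q.IsPrime]
    (hTI : ∀ r : R, (∀ σ ∈ q.inertia G, σ • r = r) ↔ r ∈ Set.range (algebraMap T R)) :
    Algebra.IsEtaleAt S (q.comap (algebraMap T R)) := by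
  obtain ⟨g, hg, het⟩ := exists_etale_away_inertia (G := G) (S := S) hS hT q hTI
  exact Algebra.basicOpen_subset_etaleLocus_iff.2 het.formallyEtale
    (show (⟨q.comap (algebraMap T R), inferInstance⟩ : PrimeSpectrum T) ∈
      PrimeSpectrum.basicOpen g from hg)

end Etale

end Groth.Agent.InertiaEtaleLib
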